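import Mathlib.Algebra.Category.ModuleCat.Ext.HasExt
import Mathlib.Algebra.Homology.DerivedCategory.Ext.Linear
import Mathlib.Algebra.Homology.DerivedCategory.Ext.ExactSequences
import Mathlib.Algebra.Homology.DerivedCategory.Ext.EnoughProjectives
import Mathlib.Algebra.Category.ModuleCat.Projective
import Mathlib.Algebra.Homology.ShortComplex.ModuleCat

/-! `Ext¹` from a projective cover. -/

set_option autoImplicit false

universe u

open CategoryTheory

namespace Groth.Agent.CotTExt

theorem nonempty_ext_one_equiv {B : Type u} [CommRing B] {L C : Type u} [AddCommGroup L] [Module B L]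
    [Module.Projective B L] [AddCommGroup C] [Module B C] (π : L →ₗ[B] C) (hπ : Function.Surjective π)
    (N : Type u) [AddCommGroup N] [Module B N] :
    Nonempty ((((LinearMap.ker π) →ₗ[B] N) ⧸ LinearMap.range (LinearMap.lcomp B N (LinearMap.ker π).subtype)) ≃ₗ[B]
      Abelian.Ext (ModuleCat.of B C) (ModuleCat.of B N) 1) := by
  let S : ShortComplex (ModuleCat.{u} B) := ShortComplex.mk (X₁ := ModuleCat.of B (LinearMap.ker π))
    (X₂ := ModuleCat.of B L) (X₃ := ModuleCat.of B C)
    (ModuleCat.ofHom (LinearMap.ker π).subtype) (ModuleCat.ofHom π)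
    (ModuleCat.hom_ext (LinearMap.ext fun z => z.2))
  have hS : S.ShortExact :=
    { exact := (ShortComplex.ShortExact.moduleCat_exact_iff_function_exact _).2
        (LinearMap.exact_subtype_ker_map π)
      mono_f := (ModuleCat.mono_iff_injective _).2 Subtype.val_injective
      epi_g := (ModuleCat.epi_iff_surjective _).2 hπ }
  have : Projective S.X₂ := (IsProjective.iff_projective (R := B) L).1 inferInstance
  let Y : ModuleCat.{u} B := ModuleCat.of B N
  let e0 : Abelian.Ext S.X₁ Y 0 ≃ₗ[B] ((LinearMap.ker π) →ₗ[B] N) :=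
    Abelian.Ext.linearEquiv₀.trans ModuleCat.homLinearEquiv
  let res : (L →ₗ[B] N) →ₗ[B] ((LinearMap.ker π) →ₗ[B] N) := LinearMap.lcomp B N (LinearMap.ker π).subtype
  let δ : Abelian.Ext S.X₁ Y 0 →ₗ[B] Abelian.Ext S.X₃ Y 1 :=
    Abelian.Ext.precompOfLinear hS.extClass B Y (add_comm 1 0)
  let q : ((LinearMap.ker π) →ₗ[B] N) →ₗ[B] Abelian.Ext S.X₃ Y 1 := δ ∘ₗ e0.symm.toLinearMap
  have hδ : Function.Surjective δ := fun x =>
    Abelian.Ext.contravariant_sequence_exact₃ hS Y x (Abelian.Ext.eq_zero_of_projective _) (add_comm 1 0)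
  have hq : Function.Surjective q := hδ.comp e0.symm.surjective
  have hker : LinearMap.range res = LinearMap.ker q := by
    ext g
    constructor
    · rintro ⟨f₂, rfl⟩
      show hS.extClass.comp (Abelian.Ext.mk₀ (ModuleCat.ofHom (res f₂))) (add_comm 1 0) = 0
      rw [show ModuleCat.ofHom (res f₂) = S.f ≫ ModuleCat.ofHom f₂ from rfl, ← Abelian.Ext.mk₀_comp_mk₀]
      exact hS.extClass_comp_assoc _
    · intro hg
      obtain ⟨x₂, hx₂⟩ := Abelian.Ext.contravariant_sequence_exact₁ hS Y (e0.symm g) (add_comm 1 0) hg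
      obtain ⟨f₂, rfl⟩ := (Abelian.Ext.linearEquiv₀ (R := B)).symm.surjective x₂
      refine ⟨f₂.hom, ?_⟩
      have h2 := congrArg e0 hx₂
      rw [LinearEquiv.apply_symm_apply, Abelian.Ext.linearEquiv₀_symm_apply, Abelian.Ext.mk₀_comp_mk₀] at h2
      rw [← h2]
      show _ = ModuleCat.homLinearEquiv (S := B) (Abelian.Ext.linearEquiv₀ (R := B) (Abelian.Ext.mk₀ (S.f ≫ f₂)))
      rw [show Abelian.Ext.linearEquiv₀ (R := B) (Abelian.Ext.mk₀ (S.f ≫ f₂)) = S.f ≫ f₂ from
        (Abelian.Ext.linearEquiv₀ (R := B)).apply_symm_apply _]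
      rfl
  exact ⟨(Submodule.quotEquivOfEq _ _ hker).trans (q.quotKerEquivOfSurjective hq)⟩

end Groth.Agent.CotTExt
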