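import Groth.Agent.CotTExt.Ext
import Groth.Agent.CotTLib.SmoothVanish
import Mathlib.RingTheory.Ideal.MinimalPrime.Localization

/-! For a reduced algebra of finite type over a perfect field, relations vanishing in `F/IF` are torsion. -/

set_option autoImplicit false

universe u v w t

open CotT

namespace Groth.Agent.CotTExt

theorem nonempty_quot_equiv {B : Type u} [CommRing B] {X L : Type u} [AddCommGroup X] [Module B X]
    [AddCommGroup L] [Module B L] {N : Type u} [AddCommGroup N] [Module B N]
    (d2 : X →ₗ[B] L) (K : Submodule B L) (hK : LinearMap.range d2 = K)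
    (h : ∀ (φ : X →ₗ[B] N) (x : X), d2 x = 0 → φ x = 0) :
    Nonempty (((X →ₗ[B] N) ⧸ LinearMap.range (LinearMap.lcomp B N d2)) ≃ₗ[B]
      ((K →ₗ[B] N) ⧸ LinearMap.range (LinearMap.lcomp B N K.subtype))) := by
  let d : X →ₗ[B] K := d2.codRestrict K fun x => hK.le ⟨x, rfl⟩
  have hd : Function.Surjective d := fun y => by
    obtain ⟨x, hx⟩ := hK.ge y.2
    exact ⟨x, Subtype.ext hx⟩
  let Ψ := LinearMap.lcomp B N d
  have hΨ : Function.Bijective Ψ := by
    refine ⟨fun f g h => LinearMap.ext fun y => ?_, fun φ => ?_⟩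
    · obtain ⟨x, rfl⟩ := hd y
      exact LinearMap.congr_fun h x
    · have hle : LinearMap.ker d ≤ LinearMap.ker φ := fun x hx =>
        h φ x (congrArg Subtype.val (LinearMap.mem_ker.1 hx))
      refine ⟨(LinearMap.ker d).liftQ φ hle ∘ₗ (d.quotKerEquivOfSurjective hd).symm.toLinearMap,
        LinearMap.ext fun x => ?_⟩
      show (LinearMap.ker d).liftQ φ hle ((d.quotKerEquivOfSurjective hd).symm (d x)) = φ x
      rw [show (d.quotKerEquivOfSurjective hd).symm (d x) = Submodule.Quotient.mk x from
        (LinearEquiv.symm_apply_eq _).2 rfl]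
      rfl
  let e2 := LinearEquiv.ofBijective Ψ hΨ
  let p := LinearMap.range (LinearMap.lcomp B N K.subtype)
  have hmap : p.map (e2 : _ →ₗ[B] _) = LinearMap.range (LinearMap.lcomp B N d2) := by
    ext f
    constructor
    · rintro ⟨_, ⟨g, rfl⟩, rfl⟩
      exact ⟨g, LinearMap.ext fun x => rfl⟩
    · rintro ⟨g, rfl⟩
      exact ⟨_, ⟨g, rfl⟩, LinearMap.ext fun x => rfl⟩
  exact ⟨(Submodule.Quotient.equiv p _ e2 hmap).symm⟩

theorem exists_smul_mem_triv_of_regular_at {R B : Type u} [CommRing R] [CommRing B] [IsRegularRing R] (π : R →+* B)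
    (hπ : Function.Surjective π) {σ : Type v} (f : σ → R) (hf : Ideal.span (Set.range f) = RingHom.ker π)
    (m : Ideal B) [m.IsPrime] [IsRegularLocalRing (Localization.AtPrime m)] (q : σ →₀ R)
    (hq : Finsupp.linearCombination R f q = 0) (hqI : ∀ s, π (q s) = 0) :
    ∃ s : R, π s ∉ m ∧ s • q ∈ CotTLib.triv f := by
  let p : Ideal R := m.comap π
  have hmcomap : m.comap π = p := rfl
  have : IsRegularLocalRing (Localization.AtPrime p) := IsRegularRing.isRegularLocalRing_localization p
  let ρ : Localization.AtPrime p →+* Localization.AtPrime m :=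
    Localization.localRingHom p m π hmcomap.symm
  have hρ : Function.Surjective ρ := by
    intro z
    obtain ⟨b, s, rfl⟩ := IsLocalization.exists_mk'_eq m.primeCompl z
    obtain ⟨b, rfl⟩ := hπ b
    obtain ⟨s₀, hs₀⟩ := hπ s.1
    have hs₀p : s₀ ∈ p.primeCompl := fun hmem => s.2 (hs₀ ▸ hmem)
    refine ⟨IsLocalization.mk' _ b (⟨s₀, hs₀p⟩ : p.primeCompl), ?_⟩
    rw [Localization.localRingHom_mk']
    congr 1
    exact Subtype.ext hs₀
  let al := algebraMap R (Localization.AtPrime p)
  have hspan : Ideal.span (Set.range (al ∘ f)) = RingHom.ker ρ := by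
    refine le_antisymm (Ideal.span_le.2 ?_) fun z hz => ?_
    · rintro _ ⟨i, rfl⟩
      rw [SetLike.mem_coe, RingHom.mem_ker, Function.comp_apply, Localization.localRingHom_to_map,
        show π (f i) = 0 from hf.le (Ideal.subset_span ⟨i, rfl⟩), map_zero]
    · obtain ⟨a, t, rfl⟩ := IsLocalization.exists_mk'_eq p.primeCompl z
      rw [RingHom.mem_ker, Localization.localRingHom_mk', IsLocalization.mk'_eq_zero_iff] at hz
      obtain ⟨c, hc⟩ := hz
      obtain ⟨c₀, hc₀⟩ := hπ c.1
      have hc₀p : c₀ ∈ p.primeCompl := fun hmem => c.2 (hc₀ ▸ hmem)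
      have hmem : c₀ * a ∈ Ideal.span (Set.range f) := by
        rw [hf, RingHom.mem_ker, map_mul, hc₀]; exact hc
      have h5 : al (c₀ * a) ∈ Ideal.span (Set.range (al ∘ f)) := by
        rw [Set.range_comp, ← Ideal.map_span]
        exact Ideal.mem_map_of_mem _ hmem
      rw [map_mul] at h5
      rw [IsLocalization.mk'_eq_mul_mk'_one]
      exact Ideal.mul_mem_right _ _
        ((Ideal.unit_mul_mem_iff_mem _ (IsLocalization.map_units (Localization.AtPrime p) (⟨c₀, hc₀p⟩ : p.primeCompl))).1 h5)
  have hlc : Finsupp.linearCombination (Localization.AtPrime p) (al ∘ f) (q.mapRange al (map_zero _)) = 0 := by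
    have h6 : ∀ g : σ →₀ R, Finsupp.linearCombination (Localization.AtPrime p) (al ∘ f)
        (g.mapRange al (map_zero _)) = al (Finsupp.linearCombination R f g) := fun g => by
      induction g using Finsupp.induction_linear with
      | zero => simp
      | add a b ha hb => rw [Finsupp.mapRange_add (map_add _), map_add, map_add, map_add, ha, hb]
      | single i c => simp
    rw [h6, hq, map_zero]
  obtain ⟨s, hs, hsq⟩ := CotTLib.exists_smul_mem_triv f p (Rp := Localization.AtPrime p) q
    (CotTLib.mem_triv_of_regSurj ρ hρ _ hspan _ hlc fun i => by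
      rw [Finsupp.mapRange_apply, Localization.localRingHom_to_map, hqI, map_zero])
  exact ⟨s, hs, hsq⟩

variable {k B : Type u} [Field k] [CommRing B] [Algebra k B] [IsReduced B] {ι σ : Type u} [Finite ι]
  (P : Algebra.Presentation k B ι σ)

theorem hom_eq_zero_of_d2_eq_zero (φ : L2 P →ₗ[B] B) (x : L2 P) (hx : d2 P x = 0) : φ x = 0 := by
  obtain ⟨q, rfl⟩ := CotTLib.cl_surjective P x
  rw [CotTLib.d2_cl] at hx
  have hcoef : ∀ s, algebraMap P.toExtension.Ring B (q.1 s) = 0 := fun s => by
    rw [← CotTLib.L1basis_repr_toL1, hx, map_zero]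
    rfl
  have : IsRegularRing P.toExtension.Ring := inferInstanceAs (IsRegularRing (MvPolynomial ι k))
  have hnil : IsNilpotent (φ (CotTLib.cl P q)) := by
    rw [← mem_nilradical, nilradical_eq_sInf, Submodule.mem_sInf]
    intro J hJ
    haveI : Ideal.IsPrime J := hJ
    obtain ⟨m, hm, hmJ⟩ := Ideal.exists_minimalPrimes_le (bot_le (a := J))
    refine hmJ ?_
    haveI : m.IsPrime := hm.1.1
    haveI : Ring.KrullDimLE 0 (Localization.AtPrime m) :=
      Ring.KrullDimLE.of_isLocalization m hm (Localization.AtPrime m)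
    haveI : IsReduced (Localization.AtPrime m) :=
      inferInstance
    let : Field (Localization.AtPrime m) := Ring.KrullDimLE.isField_of_isReduced.toField
    haveI : IsRegularLocalRing (Localization.AtPrime m) := inferInstance
    obtain ⟨s, hs, hsq⟩ := exists_smul_mem_triv_of_regular_at (algebraMap P.toExtension.Ring B)
      (CotTLib.algebraMap_surjective P) (rel P) (P.span_range_relation_eq_ker.trans rfl) m q.1 q.2 hcoef
    have h0 : algebraMap P.toExtension.Ring B s • CotTLib.cl P q = 0 := by
      rw [← CotTLib.cl_smul]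
      exact CotTLib.cl_eq_zero P hsq
    refine ((‹m.IsPrime›).mem_or_mem (x := algebraMap P.toExtension.Ring B s) ?_).resolve_left hs
    rw [← smul_eq_mul, ← map_smul, h0, map_zero]
    exact zero_mem _
  exact hnil.eq_zero

theorem nonempty_T2_equiv_ext : Nonempty (T2 P B ≃ₗ[B]
    CategoryTheory.Abelian.Ext (ModuleCat.of B P.toExtension.Cotangent) (ModuleCat.of B B) 1) := by
  have : Module.Projective B (L1 P) := Module.Projective.of_basis (L1basis P)
  obtain ⟨e⟩ := nonempty_ext_one_equiv (toCot P) (CotTLib.toCot_surjective P) B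
  have h := fun (φ : L2 P →ₗ[B] B) (x : L2 P) => hom_eq_zero_of_d2_eq_zero P φ x
  obtain ⟨e'⟩ := nonempty_quot_equiv (B := B) (X := L2 P) (L := L1 P) (N := B) (d2 P) (LinearMap.ker (toCot P))
    (CotTLib.ker_toCot P).symm h
  exact ⟨e'.trans e⟩

end Groth.Agent.CotTExt
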